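import Groth.Agent.L17.AffinePush
import Groth.Agent.L17.CohSections
import Groth.Agent.L17.ToAbRpush
import Groth.Agent.L17.RestrictIdeal

/-!
# Vanishing of higher direct images of quasi-coherent modules is stable under base change
-/

set_option autoImplicit false
set_option backward.isDefEq.respectTransparency false
set_option backward.isDefEq.respectTransparency.types false
set_option backward.defeqAttrib.useBackward true

universe u

open CategoryTheory CategoryTheory.Limits TopologicalSpace Opposite CategoryTheory.Abelian AlgebraicGeometry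
open Groth.L10 Groth.L10.SiteCoh

noncomputable section

namespace Groth.L24.RpushBC

variable {X Y : Scheme.{u}}

/-- Vanishing of a higher direct image, tested in one degree on a basis. -/
theorem isZero_RpushAb_of_basis (f : X ⟶ Y) (F : Groth.L17.AbSheaf X.toTopCat) (i : ℕ)
    {B : Set Y.Opens} (hB : Opens.IsBasis B)
    (h : ∀ W ∈ B, ∀ x : Groth.L17.HU (X := X.toTopCat) (f ⁻¹ᵁ W) F (i + 1), x = 0) :
    IsZero ((Coh.RpushAb f (i + 1)).obj F) := by
  obtain ⟨e⟩ := nonempty_Rpush_iso (J := Opens.grothendieckTopology X.toTopCat) (Opens.grothendieckTopology Y.toTopCat) (Opens.map f.base) F (i + 1)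
  refine (isZero_presheafToSheaf (Opens.grothendieckTopology Y)
    ((Opens.map f.base).op ⋙ F.cohomologyPresheaf (i + 1)) fun V x => ?_).of_iso e
  refine ⟨⟨{ arrows := fun W g => ((Opens.map f.base).op ⋙ F.cohomologyPresheaf (i + 1)).map g.op x = 0
             downward_closed := fun {W W'} g hg g' => by
              rw [op_comp, Functor.map_comp, ConcreteCategory.comp_apply, hg, map_zero] }, fun y hy => ?_⟩,
    fun a => a.hf⟩
  obtain ⟨W, hW, hyW, hWV⟩ := (Opens.isBasis_iff_nbhd.1 hB) hy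
  exact ⟨W, homOfLE hWV, h W hW _, hyW⟩

/-- Vanishing of `R^i f_*` on quasi-coherent modules gives vanishing of cohomology on preimages of affines. -/
theorem subsingleton_HHon (f : X ⟶ Y) [QuasiCompact f] [QuasiSeparated f] {V : Y.Opens} (hV : IsAffineOpen V)
    (M : X.Modules) [Coh.IsQCoh M] (i : ℕ) (h : IsZero ((Coh.RpushAb f i).obj (Coh.toAb M))) :
    Subsingleton (Coh.HHon X M (f ⁻¹ᵁ V) i) := by
  haveI := Groth.L17.PushQCoh.hasInjectiveResolutions X
  obtain ⟨e⟩ := Groth.L17.nonempty_toAb_Rpush_iso f M i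
  have h0 : IsZero (Coh.toAb ((Coh.Rpush f i).obj M)) := h.of_iso e
  have h1 : IsZero ((Coh.toAb ((Coh.Rpush f i).obj M)).obj.obj (op V)) :=
    (Functor.map_isZero (sheafToPresheaf _ _) h0).obj (op V)
  have h2 := AddCommGrpCat.subsingleton_of_isZero h1
  obtain ⟨e'⟩ := Groth.L17.nonempty_hhon_equiv M (f ⁻¹ᵁ V) i
  exact @Equiv.subsingleton _ _ e'.toEquiv
    ((Groth.L17.CohSections.equiv f hV M i).toEquiv.subsingleton_congr.2 h2)

/-- The base change statement. -/
theorem isZero_of_baseChange {X' Y' : Scheme.{u}} (f : X ⟶ Y) [CompactSpace X] [QuasiSeparatedSpace X]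
    [QuasiSeparatedSpace Y] (i : ℕ)
    (hvan : ∀ M : X.Modules, Coh.IsQCoh M → IsZero ((Coh.RpushAb f (i + 1)).obj (Coh.toAb M)))
    (g : Y' ⟶ Y) (f' : X' ⟶ Y') (g' : X' ⟶ X) (sq : IsPullback g' f' f g) (M' : X'.Modules) [Coh.IsQCoh M'] :
    IsZero ((Coh.RpushAb f' (i + 1)).obj (Coh.toAb M')) := by
  haveI : QuasiCompact f := inferInstance
  haveI : QuasiSeparated f := inferInstance
  have hB : Opens.IsBasis {W : Y'.Opens | IsAffineOpen W ∧ ∃ V : Y.Opens, IsAffineOpen V ∧ W ≤ g ⁻¹ᵁ V} := by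
    refine Opens.isBasis_iff_nbhd.2 fun {U y} hy => ?_
    obtain ⟨_, ⟨V, hV, rfl⟩, hyV, -⟩ :=
      Y.isBasis_affineOpens.exists_subset_of_mem_open (Set.mem_univ (g y)) isOpen_univ
    obtain ⟨_, ⟨W, hW, rfl⟩, hyW, hWU⟩ :=
      Y'.isBasis_affineOpens.exists_subset_of_mem_open (show y ∈ U ⊓ g ⁻¹ᵁ V from ⟨hy, hyV⟩) (U ⊓ g ⁻¹ᵁ V).isOpen
    exact ⟨W, ⟨hW, V, hV, fun z hz => (hWU hz).2⟩, hyW, fun z hz => (hWU hz).1⟩
  refine isZero_RpushAb_of_basis f' _ i hB fun W₀ hB₀ x => ?_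
  obtain ⟨hW₀, V, hV, hle⟩ := hB₀
  obtain ⟨eW⟩ := Groth.L17.nonempty_hhon_equiv M' (f' ⁻¹ᵁ W₀) (i + 1)
  suffices key : Subsingleton (Coh.HHon X' M' (f' ⁻¹ᵁ W₀) (i + 1)) by
    exact @Subsingleton.elim _ eW.toEquiv.symm.subsingleton _ _
  let a : (W₀ : Scheme.{u}) ⟶ (V : Scheme.{u}) := g.resLE V W₀ hle
  haveI : IsAffine (W₀ : Scheme.{u}) := hW₀
  haveI : IsAffine (V : Scheme.{u}) := hV
  haveI : IsAffineHom a := isAffineHom_of_isAffine _
  let U : X.Opens := f ⁻¹ᵁ V
  let U' : X'.Opens := f' ⁻¹ᵁ W₀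
  have hU : U' ≤ g' ⁻¹ᵁ U := by
    intro x hx
    show f (g' x) ∈ V
    rw [← Scheme.Hom.comp_apply, sq.w, Scheme.Hom.comp_apply]
    exact hle hx
  let h : (U' : Scheme.{u}) ⟶ (U : Scheme.{u}) := g'.resLE U U' hU
  have ha : a ≫ V.ι = W₀.ι ≫ g := Scheme.Hom.resLE_comp_ι _ _
  have hh : h ≫ U.ι = U'.ι ≫ g' := Scheme.Hom.resLE_comp_ι _ _
  have big : IsPullback (h ≫ U.ι) (f' ∣_ W₀) f (a ≫ V.ι) := by
    rw [hh, ha]
    exact (isPullback_morphismRestrict f' W₀).flip.paste_horiz sq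
  have small : IsPullback h (f' ∣_ W₀) (f ∣_ V) a := by
    refine IsPullback.of_right big ?_ (isPullback_morphismRestrict f V).flip
    rw [← cancel_mono V.ι, Category.assoc, Category.assoc, morphismRestrict_ι, ha,
      ← Category.assoc h, hh, Category.assoc, sq.w, morphismRestrict_ι_assoc]
  haveI : IsAffineHom h := MorphismProperty.of_isPullback (P := @IsAffineHom) small.flip inferInstance
  haveI : Coh.IsQCoh (M'.restrict U'.ι) := Scheme.Modules.isQuasicoherent_restrictFunctor U'.ι M'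
  haveI : QuasiCompact U.ι := Groth.L17.RestrictIdeal.quasiCompact_ι_preimage f hV
  let N := (Scheme.Modules.pushforward h).obj (M'.restrict U'.ι)
  haveI : Coh.IsQCoh N := Groth.L16.QcqsPush.isQCoh_push _ h
  let G := (Scheme.Modules.pushforward U.ι).obj N
  haveI : Coh.IsQCoh G := Groth.L16.QcqsPush.isQCoh_push _ U.ι
  let eG : G.restrict U.ι ≅ N := asIso ((Scheme.Modules.restrictAdjunction U.ι).counit.app N)
  obtain ⟨e⟩ := Groth.L17.nonempty_HH_push_of_isAffineHom h (M'.restrict U'.ι) (i + 1)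
  haveI h1 : Subsingleton (Coh.HH (U : Scheme.{u}) (G.restrict U.ι) (i + 1)) :=
    subsingleton_HHon f hV G (i + 1) (hvan G inferInstance)
  haveI : Subsingleton (Coh.HH (U : Scheme.{u}) N (i + 1)) := @Equiv.subsingleton _ _
    ((Sheaf.functorH _ (i + 1)).mapIso ((SheafOfModules.toSheaf _).mapIso eG)).addCommGroupIsoToAddEquiv.symm.toEquiv h1
  exact e.toEquiv.subsingleton

end Groth.L24.RpushBC
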